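import Cfsg.Agent.H771.IFx.Idx

/-!
# S5719, `PSL_4(q)`, piece (MI) of helper358: indices of proper subgroups of `SL₂(q)` (helper411)
-/

set_option autoImplicit false

namespace Cfsg.Agent.H411.L4

open Matrix Subgroup

variable {F : Type*} [Field F] [Fintype F]

/-- `q` even: proper subgroups of `SL₂(q)` have index at least `q + 1` -/
theorem mi_even (h4 : 4 ≤ Fintype.card F) (he : Even (Fintype.card F))
    (H : Subgroup (SpecialLinearGroup (Fin 2) F)) (hH : H ≠ ⊤) : Fintype.card F + 1 ≤ H.index := by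
  classical
  have h2 : (2 : F) = 0 := by
    have h3 : ringChar F = 2 := FiniteField.even_card_iff_char_two.2 (Nat.even_iff.1 he)
    have h4 := ringChar.Nat.cast_ringChar (R := F)
    rw [h3] at h4
    exact_mod_cast h4
  have hne : Fintype.card F ∉ ({2, 3, 5, 7, 9, 11} : Finset ℕ) := by
    simp only [Finset.mem_insert, Finset.mem_singleton, not_or]
    rcases he with ⟨r, hr⟩
    refine ⟨?_, ?_, ?_, ?_, ?_, ?_⟩ <;> omega
  let π : SpecialLinearGroup (Fin 2) F →* ProjectiveSpecialLinearGroup (Fin 2) F :=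
    QuotientGroup.mk' (Subgroup.center (SpecialLinearGroup (Fin 2) F))
  have hπ : Function.Surjective π := QuotientGroup.mk'_surjective _
  have hidx : (H.map π).index ≤ H.index := Nat.le_of_dvd (Nat.pos_of_ne_zero H.index_ne_zero_of_finite)
    (Subgroup.index_map_dvd H hπ)
  have hinj : Function.Injective π := by
    rw [← MonoidHom.ker_eq_bot_iff, eq_bot_iff]
    intro z hz
    have h3 : z ∈ Subgroup.center (SpecialLinearGroup (Fin 2) F) := (QuotientGroup.eq_one_iff z).1 hz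
    obtain ⟨r, hr, hrz⟩ := Matrix.SpecialLinearGroup.mem_center_iff.1 h3
    rw [Fintype.card_fin] at hr
    have hr' : (r - 1) * (r - 1) = 0 := by linear_combination hr + (1 - r) * h2
    have h5 : r = 1 := by
      have := mul_self_eq_zero.1 hr'
      linear_combination this
    rw [Subgroup.mem_bot]
    apply Subtype.ext
    rw [← hrz, h5, map_one]
    rfl
  have hm : H.map π ≠ ⊤ := by
    intro h
    apply hH
    have h6 := Subgroup.comap_map_eq_self_of_injective hinj H
    rw [h, Subgroup.comap_top] at h6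
    exact h6.symm
  exact ((Cfsg.Agent.S0806.result (F := F) rfl hne).1 _ hm).trans hidx

/-- `q` odd, `q ≥ 5` -/
theorem mi_odd5 (ho : Odd (Fintype.card F)) (h5 : 5 ≤ Fintype.card F) (H : Subgroup (SpecialLinearGroup (Fin 2) F))
    (hH : H ≠ ⊤) : (Fintype.card F ^ 2 + Fintype.card F + 1) * Fintype.card F ^ 2 ≤ H.index ^ 5 := by
  by_contra hcon
  push Not at hcon
  exact hH (Cfsg.Agent.H771.IFx.idx_top ho h5 H hcon)

theorem mi_odd (ho : Odd (Fintype.card F)) (h4 : 4 ≤ Fintype.card F) (H : Subgroup (SpecialLinearGroup (Fin 2) F))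
    (hH : H ≠ ⊤) : Fintype.card F ^ 4 * (Fintype.card F ^ 2 + Fintype.card F + 1) * (Fintype.card F ^ 2 + 1) ≤
      2 * H.index ^ 10 ∧ Fintype.card F ^ 4 ≤ H.index ^ 6 := by
  have h5 : 5 ≤ Fintype.card F := by
    rcases ho with ⟨r, hr⟩
    omega
  have h6 := mi_odd5 ho h5 H hH
  have hpos : 0 < H.index := Nat.pos_of_ne_zero H.index_ne_zero_of_finite
  set q := Fintype.card F with hq
  set i := H.index with hi
  constructor
  · have h7 := Nat.mul_le_mul h6 h6
    have h8 : i ^ 10 = i ^ 5 * i ^ 5 := by rw [← pow_add]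
    rw [h8]
    have h9 : q ^ 4 * (q ^ 2 + q + 1) * (q ^ 2 + 1) ≤ (q ^ 2 + q + 1) * q ^ 2 * ((q ^ 2 + q + 1) * q ^ 2) := by
      nlinarith [Nat.zero_le (q ^ 5 * (q ^ 2 + q + 1))]
    omega
  · have h7 : i ^ 5 ≤ i ^ 6 := Nat.pow_le_pow_right hpos (by norm_num)
    have h8 : q ^ 4 ≤ (q ^ 2 + q + 1) * q ^ 2 := by nlinarith [Nat.zero_le (q ^ 3), Nat.zero_le (q ^ 2)]
    omega

/-- **P3 (MI)** in the form of helper358 -/
theorem mi (h4 : 4 ≤ Fintype.card F) (H : Subgroup (SpecialLinearGroup (Fin 2) F)) (hH : H ≠ ⊤) :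
    (Even (Fintype.card F) → Fintype.card F + 1 ≤ H.index) ∧
    (Odd (Fintype.card F) → Fintype.card F ^ 4 * (Fintype.card F ^ 2 + Fintype.card F + 1) *
      (Fintype.card F ^ 2 + 1) ≤ 2 * H.index ^ 10 ∧ Fintype.card F ^ 4 ≤ H.index ^ 6) :=
  ⟨fun he => mi_even h4 he H hH, fun ho => mi_odd ho h4 H hH⟩

end Cfsg.Agent.H411.L4
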