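import Cfsg.Agent.H358.IF.Cls

/-!
# S5719, `PSL_4(q)`, `q` odd, FRAME of helper358: permutation matrices and parabolic subgroups (helper411)
-/

set_option autoImplicit false
set_option linter.unusedSectionVars false

namespace Cfsg.Agent.H411.L4

open Matrix Cfsg.Agent.H209.Fxy Cfsg.Agent.H358.IF

section Perm

variable {ι : Type} [Fintype ι] [DecidableEq ι] {F : Type} [Field F]

/-- the permutation matrix -/
def pm (π : Equiv.Perm ι) : GL ι F where
  val := π.symm.toPEquiv.toMatrix
  inv := π.toPEquiv.toMatrix
  val_inv := by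
    rw [← PEquiv.toMatrix_trans, ← Equiv.toPEquiv_trans, Equiv.symm_trans_self, Equiv.toPEquiv_refl,
      PEquiv.toMatrix_refl]
  inv_val := by
    rw [← PEquiv.toMatrix_trans, ← Equiv.toPEquiv_trans, Equiv.self_trans_symm, Equiv.toPEquiv_refl,
      PEquiv.toMatrix_refl]

theorem cS_pm_val (π : Equiv.Perm ι) (s : SpecialLinearGroup ι F) :
    (cS (pm π) s).val = s.val.submatrix π.symm π.symm := by
  rw [cS_val]
  show π.symm.toPEquiv.toMatrix * s.val * π.toPEquiv.toMatrix = _
  rw [PEquiv.toMatrix_toPEquiv_mul, PEquiv.mul_toMatrix_toPEquiv, submatrix_submatrix]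
  rfl

theorem cS_pm_transvection (π : Equiv.Perm ι) {i j : ι} (hij : i ≠ j) (a : F) :
    cS (pm π) (SpecialLinearGroup.transvection hij a) =
      SpecialLinearGroup.transvection (fun h => hij (π.injective h) : π i ≠ π j) a := by
  apply Subtype.ext
  rw [cS_pm_val]
  show (Matrix.transvection i j a).submatrix π.symm π.symm = Matrix.transvection (π i) (π j) a
  ext x y
  obtain ⟨x, rfl⟩ := π.surjective x
  obtain ⟨y, rfl⟩ := π.surjective y
  rw [submatrix_apply, Equiv.symm_apply_apply, Equiv.symm_apply_apply, Matrix.transvection, Matrix.transvection,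
    Matrix.add_apply, Matrix.add_apply, Matrix.one_apply, Matrix.one_apply, Matrix.single_apply, Matrix.single_apply]
  simp only [π.injective.eq_iff]

variable {A : Subgroup (ProjectiveSpecialLinearGroup ι F)}

theorem Rt_pm (π : Equiv.Perm ι) {i j : ι} : Rt (cA (pm π) A) (π i) (π j) ↔ Rt A i j := by
  constructor
  · intro h hij a
    rw [← mem_cA (g := pm π), cS_pm_transvection]
    exact h _ a
  · intro h hij a
    have hij' : i ≠ j := fun e => hij (by rw [e])
    have h1 := h hij' a
    rw [← mem_cA (g := pm π), cS_pm_transvection] at h1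
    exact h1

end Perm

end Cfsg.Agent.H411.L4
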