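import Cfsg.Agent.H411.L4.Par

/-!
# S5719, `PSL_4(q)`, `q` odd: FRAME of helper358: no frame pair `diag(-1,-1,1,1)`, `diag(1,-1,1,-1)` in `A` (helper411)
-/

set_option autoImplicit false
set_option linter.unusedSectionVars false

namespace Cfsg.Agent.H411.L4

open Matrix Cfsg.Agent.H209.Fxy Cfsg.Agent.H358.IF

variable {F : Type} [Field F]

/-- both root groups -/
def RR (A : Subgroup (P4 F)) (i j : I4) : Prop := Rt A i j ∧ Rt A j i

theorem RR.symm {A : Subgroup (P4 F)} {i j : I4} (h : RR A i j) : RR A j i := ⟨h.2, h.1⟩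

theorem RR_pm {A : Subgroup (P4 F)} (π : Equiv.Perm I4) {i j : I4} (h : RR A i j) : RR (cA (pm π) A) (π i) (π j) :=
  ⟨(Rt_pm π).2 h.1, (Rt_pm π).2 h.2⟩

theorem blk_left_tv {i j : Fin 2} (hij : i ≠ j) (a : F) : blk (SpecialLinearGroup.transvection hij a, 1) =
    (SpecialLinearGroup.transvection (fun h => hij (Sum.inl_injective h) : (Sum.inl i : I4) ≠ Sum.inl j) a : S4 F) := by
  apply Subtype.ext
  show fromBlocks (Matrix.transvection i j a) 0 0 1 = Matrix.transvection (Sum.inl i) (Sum.inl j) a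
  ext x y
  rcases x with x | x <;> rcases y with y | y <;>
    simp [Matrix.transvection, Matrix.one_apply, Matrix.single_apply]

theorem blk_right_tv {i j : Fin 2} (hij : i ≠ j) (a : F) : blk (1, SpecialLinearGroup.transvection hij a) =
    (SpecialLinearGroup.transvection (fun h => hij (Sum.inr_injective h) : (Sum.inr i : I4) ≠ Sum.inr j) a : S4 F) := by
  apply Subtype.ext
  show fromBlocks 1 0 0 (Matrix.transvection i j a) = Matrix.transvection (Sum.inr i) (Sum.inr j) a
  ext x y
  rcases x with x | x <;> rcases y with y | y <;>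
    simp [Matrix.transvection, Matrix.one_apply, Matrix.single_apply]

theorem RR_left {A : Subgroup (P4 F)} (h : ∀ a : S2 F, blk (a, 1) ∈ At A) {i j : Fin 2} (hij : i ≠ j) :
    RR A (Sum.inl i) (Sum.inl j) := by
  constructor
  · intro _ a
    have := h (SpecialLinearGroup.transvection hij a)
    rwa [blk_left_tv] at this
  · intro _ a
    have := h (SpecialLinearGroup.transvection hij.symm a)
    rwa [blk_left_tv] at this

theorem RR_right {A : Subgroup (P4 F)} (h : ∀ a : S2 F, blk (1, a) ∈ At A) {i j : Fin 2} (hij : i ≠ j) :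
    RR A (Sum.inr i) (Sum.inr j) := by
  constructor
  · intro _ a
    have := h (SpecialLinearGroup.transvection hij a)
    rwa [blk_right_tv] at this
  · intro _ a
    have := h (SpecialLinearGroup.transvection hij.symm a)
    rwa [blk_right_tv] at this

/-! ### conjugation of root elements by `diag(1, b)` -/

/-- the matrix unit commutations -/
theorem conj_right (b : S2 F) (i : Fin 2) (M : M2 F) :
    blk (1, b) * up (Multiplicative.ofAdd M) * (blk (1, b))⁻¹ =
      up (Multiplicative.ofAdd (M * (b⁻¹ : S2 F).val)) := by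
  rw [← map_inv, Prod.inv_mk, inv_one]
  apply Subtype.ext
  show (blk (1, b)).val * (up (Multiplicative.ofAdd M)).val * (blk (1, b⁻¹)).val = _
  rw [blk_val, blk_val, up_val, up_val, fromBlocks_multiply, fromBlocks_multiply]
  simp only [show (1 : S2 F).val = 1 from rfl, Matrix.mul_zero, Matrix.zero_mul, Matrix.mul_one, Matrix.one_mul,
    add_zero, zero_add, mul_inv_val]

theorem conj_lo (b : S2 F) (M : M2 F) :
    blk (1, b) * lo (Multiplicative.ofAdd M) * (blk (1, b))⁻¹ = lo (Multiplicative.ofAdd (b.val * M)) := by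
  rw [← map_inv, Prod.inv_mk, inv_one]
  apply Subtype.ext
  show (blk (1, b)).val * (lo (Multiplicative.ofAdd M)).val * (blk (1, b⁻¹)).val = _
  rw [blk_val, blk_val, lo_val, lo_val, fromBlocks_multiply, fromBlocks_multiply]
  simp only [show (1 : S2 F).val = 1 from rfl, Matrix.mul_zero, Matrix.zero_mul, Matrix.mul_one, Matrix.one_mul,
    add_zero, zero_add, mul_inv_val]

theorem up_tv (i j : Fin 2) (a : F) : up (Multiplicative.ofAdd (Matrix.single i j a)) =
    (SpecialLinearGroup.transvection (fun h => Sum.inl_ne_inr h : (Sum.inl i : I4) ≠ Sum.inr j) a : S4 F) := by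
  apply Subtype.ext
  rw [up_val]
  show fromBlocks 1 (Matrix.single i j a) 0 1 = Matrix.transvection (Sum.inl i) (Sum.inr j) a
  ext x y
  rcases x with x | x <;> rcases y with y | y <;>
    simp [Matrix.transvection, Matrix.one_apply, Matrix.single_apply]

theorem lo_tv (i j : Fin 2) (a : F) : lo (Multiplicative.ofAdd (Matrix.single i j a)) =
    (SpecialLinearGroup.transvection (fun h => Sum.inr_ne_inl h : (Sum.inr i : I4) ≠ Sum.inl j) a : S4 F) := by
  apply Subtype.ext
  rw [lo_val]
  show fromBlocks 1 0 (Matrix.single i j a) 1 = Matrix.transvection (Sum.inr i) (Sum.inl j) a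
  ext x y
  rcases x with x | x <;> rcases y with y | y <;>
    simp [Matrix.transvection, Matrix.one_apply, Matrix.single_apply]

section Fin

variable [Fintype F] {A : Subgroup (P4 F)}

/-- the number of diagonal elements -/
theorem card_diag_le {H : Subgroup (S2 F)} (h : ∀ b ∈ H, b.val 0 1 = 0 ∧ b.val 1 0 = 0) :
    Nat.card H ≤ Fintype.card F - 1 := by
  classical
  have h1 : ∀ b ∈ H, b.val 0 0 * b.val 1 1 = 1 := by
    intro b hb
    have h2 := b.2
    rw [det_fin_two, (h b hb).1, zero_mul, sub_zero] at h2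
    exact h2
  have h2 : Function.Injective (fun b : H => (Units.mk0 (b.1.val 0 0) (left_ne_zero_of_mul_eq_one (h1 b.1 b.2)) : Fˣ)) := by
    intro b c hbc
    have h3 : b.1.val 0 0 = c.1.val 0 0 := congrArg Units.val hbc
    apply Subtype.ext
    apply Subtype.ext
    have h4 : b.1.val 1 1 = c.1.val 1 1 := by
      have h5 := h1 b.1 b.2
      have h6 := h1 c.1 c.2
      rw [h3] at h5
      exact mul_left_cancel₀ (left_ne_zero_of_mul_eq_one h6) (h5.trans h6.symm)
    ext i j
    fin_cases i <;> fin_cases j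
    · exact h3
    · exact (h b.1 b.2).1.trans (h c.1 c.2).1.symm
    · exact (h b.1 b.2).2.trans (h c.1 c.2).2.symm
    · exact h4
  have h3 := Nat.card_le_card_of_injective _ h2
  rwa [Nat.card_eq_fintype_card (α := Fˣ), Fintype.card_units] at h3

theorem core (h2 : (2 : F) ≠ 0) (h : IFA A) (ht : t0 ∈ At A) (h01 : RR A (Sum.inl 0) (Sum.inl 1))
    (h02 : RR A (Sum.inl 0) (Sum.inr 0)) : False := by
  classical
  obtain ⟨h3, h4⟩ := idx_t0 h2 h ht
  have hodd := (ClassicalGeometry.PSL2Basic.two_ne_zero_iff_odd (F := F)).1 h2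
  let H : Subgroup (S2 F) := (Dt A).comap (MonoidHom.inr (S2 F) (S2 F))
  have hH : ∀ b, b ∈ H ↔ blk (1, b) ∈ At A := fun b => Iff.rfl
  have hle : H.index ≤ (Dt A).index := by
    rw [Subgroup.index_comap, ← Subgroup.relIndex_top_right (Dt A)]
    exact Subgroup.relIndex_le_of_le_right le_top Subgroup.index_ne_zero_of_finite
  have h12 : RR A (Sum.inl 1) (Sum.inr 0) :=
    ⟨h01.2.trans h02.1 (by simp) (by simp), h02.2.trans h01.1 (by simp) (by simp)⟩
  have h3' : ∀ i j : I4, i ≠ Sum.inr 1 → j ≠ Sum.inr 1 → i ≠ j → Rt A i j := by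
    intro i j hi hj hij
    rcases i with i | i <;> rcases j with j | j <;> fin_cases i <;> fin_cases j
    · exact absurd rfl hij
    · exact h01.1
    · exact h01.2
    · exact absurd rfl hij
    · exact h02.1
    · exact absurd rfl hj
    · exact h12.1
    · exact absurd rfl hj
    · exact h02.2
    · exact h12.2
    · exact absurd rfl hi
    · exact absurd rfl hi
    · exact absurd rfl hij
    · exact absurd rfl hj
    · exact absurd rfl hi
    · exact absurd rfl hi
  by_cases hHt : H = ⊤
  · -- everything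
    have h5 : RR A (Sum.inr 0) (Sum.inr 1) := RR_right (fun a => (hH a).1 (by rw [hHt]; trivial)) (by decide)
    have : Nontrivial I4 := ⟨⟨Sum.inl 0, Sum.inr 0, by simp⟩⟩
    apply h.not_all
    have h6 : ∀ i : I4, i ≠ Sum.inr 1 → Rt A i (Sum.inr 1) := by
      intro i hi
      by_cases hi0 : i = Sum.inr 0
      · rw [hi0]; exact h5.1
      · exact (h3' i (Sum.inr 0) hi (by simp) hi0).trans h5.1 hi0 (by simp)
    have h7 : ∀ i : I4, i ≠ Sum.inr 1 → Rt A (Sum.inr 1) i := by
      intro i hi
      by_cases hi0 : i = Sum.inr 0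
      · rw [hi0]; exact h5.2
      · exact h5.2.trans (h3' (Sum.inr 0) i (by simp) hi (fun e => hi0 e.symm)) (by simp) (fun e => hi0 e.symm)
    intro i j hij
    by_cases hi : i = Sum.inr 1
    · subst hi
      exact h7 j (fun e => hij e.symm)
    · by_cases hj : j = Sum.inr 1
      · subst hj
        exact h6 i hi
      · exact h3' i j hi hj hij
  -- a non-diagonal element
  have hq : 3 ≤ Fintype.card F := by
    have : 2 ≤ Fintype.card F := Fintype.one_lt_card
    obtain ⟨k, hk⟩ := hodd
    omega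
  have hex : ∃ b ∈ H, b.val 0 1 ≠ 0 ∨ b.val 1 0 ≠ 0 := by
    by_contra hcon
    push Not at hcon
    have h5 := card_diag_le hcon
    have h6 := H.card_mul_index
    rw [card_S2] at h6
    set q := Fintype.card F
    set f := (Dt A).index
    have h7 : q * (q ^ 2 - 1) ≤ (q - 1) * f := by
      rw [← h6]
      exact Nat.mul_le_mul h5 hle
    have h8 : q ^ 2 - 1 = (q - 1) * (q + 1) := by
      have := Nat.sq_sub_sq q 1
      rw [one_pow] at this
      rw [this]; ring
    have h9 : q * (q + 1) ≤ f := by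
      refine Nat.le_of_mul_le_mul_left ?_ (show 0 < q - 1 by omega)
      calc (q - 1) * (q * (q + 1)) = q * (q ^ 2 - 1) := by rw [h8]; ring
        _ ≤ _ := h7
    have h10 := Nat.pow_le_pow_left h9 5
    have h11 : q ^ 4 * (q ^ 2 + q + 1) * (q ^ 2 + 1) ≤ (q * (q + 1)) ^ 5 := by
      have h12 : q ^ 2 + q + 1 ≤ (q + 1) ^ 2 := by nlinarith
      have h13 : q ^ 2 + 1 ≤ (q + 1) ^ 2 := by nlinarith
      calc q ^ 4 * (q ^ 2 + q + 1) * (q ^ 2 + 1) ≤ q ^ 5 * (q + 1) ^ 2 * (q + 1) ^ 3 :=
            Nat.mul_le_mul (Nat.mul_le_mul (Nat.pow_le_pow_right (by omega) (by norm_num)) h12)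
              (h13.trans (Nat.pow_le_pow_right (by omega) (by norm_num)))
        _ = _ := by ring
    omega
  have hn : (At A).index ≤ Fintype.card F ^ 4 - 1 := by
    obtain ⟨b, hb, hb' | hb'⟩ := hex
    · -- the column of `inr 1`
      have h5 : up (Multiplicative.ofAdd (Matrix.single 0 0 1)) ∈ At A := by
        rw [up_tv]
        exact h02.1 _ _
      have h6 : blk (1, b) * up (Multiplicative.ofAdd (Matrix.single 0 0 1)) * (blk (1, b))⁻¹ ∈ At A :=
        mul_mem (mul_mem hb h5) (inv_mem hb)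
      rw [conj_right b 0] at h6
      have h7 : (Matrix.single 0 0 1 : M2 F) * (b⁻¹ : S2 F).val =
          Matrix.single 0 0 (b.val 1 1) + Matrix.single 0 1 (-b.val 0 1) := by
        have h8 : (b⁻¹ : S2 F).val = !![b.val 1 1, -b.val 0 1; -b.val 1 0, b.val 0 0] := by
          show adjugate b.val = _
          rw [adjugate_fin_two]
        rw [h8]
        ext i j
        fin_cases i <;> fin_cases j <;> simp [Matrix.mul_apply, Fin.sum_univ_two, Matrix.single_apply]
      rw [h7, ofAdd_add, map_mul, up_tv, up_tv] at h6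
      have h9 := mul_mem (inv_mem (h02.1 (by simp) (b.val 1 1))) h6
      rw [inv_mul_cancel_left] at h9
      have h10 : ∀ i : I4, i ≠ Sum.inr 1 → i ≠ Sum.inl 0 → Rt A i (Sum.inr 1) := fun i hi hi0 =>
        (h3' i (Sum.inl 0) hi (by simp) hi0).left hi0 (by simp) (neg_ne_zero.2 hb') h9
      have h11 : ∀ i : I4, i ≠ Sum.inr 1 → Rt A i (Sum.inr 1) := by
        intro i hi
        by_cases hi0 : i = Sum.inl 0
        · rw [hi0]
          exact h01.1.trans (h10 (Sum.inl 1) (by simp) (by simp)) (by simp) (by simp)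
        · exact h10 i hi hi0
      refine idx_rows (d := Sum.inr 1) fun i j hi hij => ?_
      by_cases hj : j = Sum.inr 1
      · rw [hj]; exact h11 i hi
      · exact h3' i j hi hj hij
    · -- the row of `inr 1`
      have h5 : lo (Multiplicative.ofAdd (Matrix.single 0 0 1)) ∈ At A := by
        rw [lo_tv]
        exact h02.2 _ _
      have h6 : blk (1, b) * lo (Multiplicative.ofAdd (Matrix.single 0 0 1)) * (blk (1, b))⁻¹ ∈ At A :=
        mul_mem (mul_mem hb h5) (inv_mem hb)
      rw [conj_lo b] at h6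
      have h7 : b.val * (Matrix.single 0 0 1 : M2 F) =
          Matrix.single 0 0 (b.val 0 0) + Matrix.single 1 0 (b.val 1 0) := by
        ext i j
        fin_cases i <;> fin_cases j <;> simp [Matrix.mul_apply, Fin.sum_univ_two, Matrix.single_apply]
      rw [h7, ofAdd_add, map_mul, lo_tv, lo_tv] at h6
      have h9 := mul_mem (inv_mem (h02.2 (by simp) (b.val 0 0))) h6
      rw [inv_mul_cancel_left] at h9
      have h10 : ∀ i : I4, i ≠ Sum.inr 1 → i ≠ Sum.inl 0 → Rt A (Sum.inr 1) i := fun i hi hi0 =>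
        (h3' (Sum.inl 0) i (by simp) hi (fun e => hi0 e.symm)).right (by simp) (fun e => hi0 e.symm) hb' h9
      have h11 : ∀ i : I4, i ≠ Sum.inr 1 → Rt A (Sum.inr 1) i := by
        intro i hi
        by_cases hi0 : i = Sum.inl 0
        · rw [hi0]
          exact (h10 (Sum.inl 1) (by simp) (by simp)).trans h01.2 (by simp) (by simp)
        · exact h10 i hi hi0
      refine idx_cols (d := Sum.inr 1) fun i j hj hij => ?_
      by_cases hi : i = Sum.inr 1
      · rw [hi]; exact h11 j hj
      · exact h3' i j hi hj hij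
  have hbig := h.big
  by_cases h5 : 5 ≤ Fintype.card F
  · have h6 := (mi_odd hodd (by omega) H hHt).2
    have h7 := Nat.pow_le_pow_left hle 6
    omega
  · have h6 : Fintype.card F = 3 := by
      obtain ⟨k, hk⟩ := hodd
      omega
    rw [h6] at hn
    omega

theorem frame_false (h2 : (2 : F) ≠ 0) {A : Subgroup (P4 F)} (h : IFA A)
    (hJ : ∀ A' : Subgroup (P4 F), IFA A' → ¬ IsSquare (-1 : F) → tJ ∉ At A') (ht : t0 ∈ At A)
    (hs : ∀ hd, dg !![1, 0; 0, -1] !![1, 0; 0, -1] hd ∈ At A) : False := by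
  classical
  have h1 := L1 h2 h ht (hJ A h)
  -- the permutation exchanging `inl 1` and `inr 0`
  let σ : Equiv.Perm I4 := Equiv.swap (Sum.inl 1) (Sum.inr 0)
  have hd : (!![1, 0; 0, -1] : M2 F).det * (!![1, 0; 0, -1] : M2 F).det = 1 := by
    rw [det_fin_two_of]; ring
  have h3 : t0 ∈ At (cA (pm σ) A) := by
    have h4 : cS (pm σ) (dg !![1, 0; 0, -1] !![1, 0; 0, -1] hd) ∈ At (cA (pm σ) A) := mem_cA.2 (hs hd)
    refine mem_At_of_smul (c := -1) ?_ h4
    rw [cS_pm_val, dg_val, t0_val]
    ext i j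
    rw [Matrix.smul_apply, submatrix_apply]
    rcases i with i | i <;> rcases j with j | j <;> fin_cases i <;> fin_cases j <;>
      simp [σ, Equiv.swap_apply_def, fromBlocks]
  have h5 := L1 h2 (h.conj (pm σ)) h3 (hJ _ (h.conj (pm σ)))
  have hu : RR A (Sum.inl 0) (Sum.inl 1) ∨ RR A (Sum.inr 0) (Sum.inr 1) :=
    h1.imp (fun h => RR_left h (by decide)) (fun h => RR_right h (by decide))
  have hv : RR A (Sum.inl 0) (Sum.inr 0) ∨ RR A (Sum.inl 1) (Sum.inr 1) := by
    rcases h5 with h6 | h6
    · left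
      have h7 := RR_left h6 (i := 0) (j := 1) (by decide)
      have e1 : σ (Sum.inl 0) = Sum.inl 0 := by decide
      have e2 : σ (Sum.inr 0) = Sum.inl 1 := by decide
      exact ⟨(Rt_pm σ).1 (by rw [e1, e2]; exact h7.1), (Rt_pm σ).1 (by rw [e1, e2]; exact h7.2)⟩
    · right
      have h7 := RR_right h6 (i := 0) (j := 1) (by decide)
      have e1 : σ (Sum.inl 1) = Sum.inr 0 := by decide
      have e2 : σ (Sum.inr 1) = Sum.inr 1 := by decide
      exact ⟨(Rt_pm σ).1 (by rw [e1, e2]; exact h7.1), (Rt_pm σ).1 (by rw [e1, e2]; exact h7.2)⟩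
  -- the permutations exchanging the blocks, and exchanging inside of the blocks
  let α : Equiv.Perm I4 := Equiv.sumComm (Fin 2) (Fin 2)
  let β : Equiv.Perm I4 := Equiv.sumCongr (Equiv.swap 0 1) (Equiv.swap 0 1)
  have hα : ∀ A : Subgroup (P4 F), t0 ∈ At A → t0 ∈ At (cA (pm α) A) := by
    intro A hA
    have h4 : cS (pm α) t0 ∈ At (cA (pm α) A) := mem_cA.2 hA
    refine mem_At_of_smul (c := -1) ?_ h4
    rw [cS_pm_val, t0_val]
    ext i j
    rw [Matrix.smul_apply, submatrix_apply]
    rcases i with i | i <;> rcases j with j | j <;> simp [α]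
  have hβ : ∀ A : Subgroup (P4 F), t0 ∈ At A → t0 ∈ At (cA (pm β) A) := by
    intro A hA
    have h4 : cS (pm β) t0 ∈ At (cA (pm β) A) := mem_cA.2 hA
    refine mem_At_of_smul (c := 1) ?_ h4
    rw [cS_pm_val, t0_val]
    ext i j
    rw [Matrix.smul_apply, submatrix_apply]
    rcases i with i | i <;> rcases j with j | j <;> fin_cases i <;> fin_cases j <;> simp [β]
  rcases hu with hu | hu <;> rcases hv with hv | hv
  · exact core h2 h ht hu hv
  · exact core h2 (h.conj (pm β)) (hβ A ht) (RR_pm β hu).symm (RR_pm β hv)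
  · exact core h2 (h.conj (pm α)) (hα A ht) (RR_pm α hu) (RR_pm α hv).symm
  · exact core h2 ((h.conj (pm α)).conj (pm β)) (hβ _ (hα A ht)) (RR_pm β (RR_pm α hu)).symm
      (RR_pm β (RR_pm α hv)).symm

end Fin

end Cfsg.Agent.H411.L4
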