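import Cfsg.Agent.H411.L4.Perm

/-!
# S5719, `PSL_4(q)`, `q` odd, FRAME of helper358: the index of a subgroup containing a point or hyperplane parabolic
(helper411)
-/

set_option autoImplicit false
set_option linter.unusedSectionVars false

namespace Cfsg.Agent.H411.L4

open Matrix Cfsg.Agent.H209.Fxy Cfsg.Agent.H358.IF

variable {F : Type} [Field F]

/-- index type -/
abbrev I31 := Fin 3 ⊕ Unit

/-- `diag(g, 1)` -/
def E3 : SpecialLinearGroup (Fin 3) F →* SpecialLinearGroup I31 F where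
  toFun g := ⟨fromBlocks g.val 0 0 1, by rw [det_fromBlocks_zero₂₁, g.2, det_one, mul_one]⟩
  map_one' := Subtype.ext fromBlocks_one
  map_mul' x y := Subtype.ext (by
    show fromBlocks (x.val * y.val) 0 0 1 = fromBlocks x.val 0 0 1 * fromBlocks y.val 0 0 1
    rw [fromBlocks_multiply]
    simp)

/-- `[[1, v], [0, 1]]` -/
def U3 (v : Fin 3 → F) : SpecialLinearGroup I31 F :=
  ⟨fromBlocks 1 (Matrix.of fun i _ => v i) 0 1, by rw [det_fromBlocks_zero₂₁, det_one, det_one, mul_one]⟩

/-- `[[1, 0], [v, 1]]` -/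
def L3 (v : Fin 3 → F) : SpecialLinearGroup I31 F :=
  ⟨fromBlocks 1 0 (Matrix.of fun _ i => v i) 1, by rw [det_fromBlocks_zero₁₂, det_one, det_one, mul_one]⟩

theorem U3_add (v w : Fin 3 → F) : U3 (v + w) = U3 v * U3 w := by
  apply Subtype.ext
  show fromBlocks 1 (Matrix.of fun i _ => (v + w) i) 0 1 = fromBlocks 1 (Matrix.of fun i _ => v i) 0 1 *
    fromBlocks 1 (Matrix.of fun i _ => w i) 0 1
  rw [fromBlocks_multiply]
  simp only [Matrix.mul_zero, Matrix.mul_one, Matrix.one_mul, Matrix.zero_mul, add_zero, zero_add]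
  congr 1
  ext i j
  simp [add_comm]

theorem L3_add (v w : Fin 3 → F) : L3 (v + w) = L3 v * L3 w := by
  apply Subtype.ext
  show fromBlocks 1 0 (Matrix.of fun _ i => (v + w) i) 1 = fromBlocks 1 0 (Matrix.of fun _ i => v i) 1 *
    fromBlocks 1 0 (Matrix.of fun _ i => w i) 1
  rw [fromBlocks_multiply]
  simp only [Matrix.mul_zero, Matrix.mul_one, Matrix.one_mul, Matrix.zero_mul, add_zero, zero_add]
  congr 1

theorem E3_tv {i j : Fin 3} (hij : i ≠ j) (a : F) : E3 (SpecialLinearGroup.transvection hij a) =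
    SpecialLinearGroup.transvection (fun h => hij (Sum.inl_injective h) : (Sum.inl i : I31) ≠ Sum.inl j) a := by
  apply Subtype.ext
  show fromBlocks (Matrix.transvection i j a) 0 0 1 = Matrix.transvection (Sum.inl i) (Sum.inl j) a
  ext x y
  rcases x with x | x <;> rcases y with y | y <;>
    simp [Matrix.transvection, Matrix.one_apply, Matrix.single_apply]

theorem U3_tv (i : Fin 3) (a : F) : U3 (Pi.single i a) =
    SpecialLinearGroup.transvection (fun h => Sum.inl_ne_inr h : (Sum.inl i : I31) ≠ Sum.inr ()) a := by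
  apply Subtype.ext
  show fromBlocks 1 (Matrix.of fun k _ => (Pi.single i a : Fin 3 → F) k) 0 1 =
    Matrix.transvection (Sum.inl i) (Sum.inr ()) a
  ext x y
  rcases x with x | x <;> rcases y with y | y <;>
    simp [Matrix.transvection, Matrix.one_apply, Matrix.single_apply, Pi.single_apply, eq_comm]

theorem L3_tv (i : Fin 3) (a : F) : L3 (Pi.single i a) =
    SpecialLinearGroup.transvection (fun h => Sum.inr_ne_inl h : (Sum.inr () : I31) ≠ Sum.inl i) a := by
  apply Subtype.ext
  show fromBlocks 1 0 (Matrix.of fun _ k => (Pi.single i a : Fin 3 → F) k) 1 =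
    Matrix.transvection (Sum.inr ()) (Sum.inl i) a
  ext x y
  rcases x with x | x <;> rcases y with y | y <;>
    simp [Matrix.transvection, Matrix.one_apply, Matrix.single_apply, Pi.single_apply, eq_comm]

theorem slR_tv {ι ι' : Type} [Fintype ι] [DecidableEq ι] [Fintype ι'] [DecidableEq ι'] (e : ι ≃ ι') {i j : ι}
    (hij : i ≠ j) (a : F) : slR e (SpecialLinearGroup.transvection hij a : SpecialLinearGroup ι F) =
      SpecialLinearGroup.transvection (fun h => hij (e.injective h) : e i ≠ e j) a := by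
  apply Subtype.ext
  show Matrix.reindex e e (Matrix.transvection i j a) = Matrix.transvection (e i) (e j) a
  ext x y
  obtain ⟨x, rfl⟩ := e.surjective x
  obtain ⟨y, rfl⟩ := e.surjective y
  rw [reindex_apply, submatrix_apply, Equiv.symm_apply_apply, Equiv.symm_apply_apply, Matrix.transvection,
    Matrix.transvection, Matrix.add_apply, Matrix.add_apply, Matrix.one_apply, Matrix.one_apply, Matrix.single_apply,
    Matrix.single_apply]
  simp only [e.injective.eq_iff]

section Fin

variable [Fintype F] {A : Subgroup (P4 F)}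

theorem card_S3 : Nat.card (SpecialLinearGroup (Fin 3) F) = Fintype.card F ^ 3 *
    ((Fintype.card F ^ 3 - 1) * (Fintype.card F ^ 2 - 1)) := by
  have h1 := Cfsg.Agent.S0242.result (F := F) rfl 3 (by norm_num)
  rw [Fin.prod_univ_three] at h1
  have hq : 2 ≤ Fintype.card F := Fintype.one_lt_card
  apply Nat.eq_of_mul_eq_mul_left (show 0 < Fintype.card F - 1 by omega)
  rw [h1]
  set q := Fintype.card F
  have h3 : q ^ 3 - q ^ 1 = q * (q ^ 2 - 1) := by rw [Nat.mul_sub]; ring_nf
  have h4 : q ^ 3 - q ^ 2 = q ^ 2 * (q - 1) := by rw [Nat.mul_sub]; ring_nf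
  simp only [Fin.val_zero, Fin.val_one, Fin.val_two, pow_zero]
  rw [h3, h4]
  ring

/-- the common count -/
theorem idx_aux (e : I31 ≃ I4) (W : (Fin 3 → F) → SpecialLinearGroup I31 F)
    (hW : ∀ v w g h, W v * E3 g = W w * E3 h → v = w ∧ g = h)
    (hE : ∀ (i j : Fin 3), i ≠ j → Rt A (e (Sum.inl i)) (e (Sum.inl j)))
    (hWA : ∀ v, slR e (W v) ∈ At A) : (At A).index ≤ Fintype.card F ^ 4 - 1 := by
  let K : Subgroup (SpecialLinearGroup I31 F) := (At A).comap (slR e).toMonoidHom
  have hKi : K.index = (At A).index := Subgroup.index_comap_of_surjective _ (slR e).surjective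
  have hEK : ∀ g, E3 g ∈ K := by
    intro g
    have h1 : g ∈ K.comap E3 := by
      have h2 : (⊤ : Subgroup (SpecialLinearGroup (Fin 3) F)) ≤ K.comap E3 := by
        rw [← LieClassical.SLGen.closure_transvections, Subgroup.closure_le]
        rintro _ ⟨i, j, hij, a, rfl⟩
        show slR e (E3 (SpecialLinearGroup.transvection hij a)) ∈ At A
        rw [E3_tv, slR_tv]
        exact hE i j hij _ a
      exact h2 (Subgroup.mem_top g)
    exact h1
  have hcard : Nat.card (SpecialLinearGroup (Fin 3) F) * Fintype.card F ^ 3 ≤ Nat.card K := by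
    have h1 : Function.Injective (fun p : SpecialLinearGroup (Fin 3) F × (Fin 3 → F) =>
        (⟨W p.2 * E3 p.1, K.mul_mem (hWA p.2) (hEK p.1)⟩ : K)) := by
      rintro ⟨g, v⟩ ⟨h, w⟩ hgh
      obtain ⟨h2, h3⟩ := hW _ _ _ _ (congrArg Subtype.val hgh)
      exact Prod.ext h3 h2
    have h2 := Nat.card_le_card_of_injective _ h1
    rwa [Nat.card_prod, Nat.card_fun, Nat.card_eq_fintype_card (α := F), Nat.card_eq_fintype_card (α := Fin 3),
      Fintype.card_fin] at h2
  have h3 := K.card_mul_index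
  rw [hKi, Nat.card_congr (slR (F := F) e).toEquiv, card_S4] at h3
  rw [card_S3] at hcard
  have hq : 2 ≤ Fintype.card F := Fintype.one_lt_card
  set q := Fintype.card F
  set n := (At A).index
  have h4 : q ^ 3 * ((q ^ 3 - 1) * (q ^ 2 - 1)) * q ^ 3 * n ≤ q ^ 6 * ((q ^ 4 - 1) * (q ^ 3 - 1) * (q ^ 2 - 1)) := by
    rw [← h3]
    exact Nat.mul_le_mul_right _ hcard
  have h5 : 0 < q ^ 6 * ((q ^ 3 - 1) * (q ^ 2 - 1)) := by
    have h6 : 1 < q ^ 3 := Nat.one_lt_pow (by norm_num) (by omega)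
    have h7 : 1 < q ^ 2 := Nat.one_lt_pow (by norm_num) (by omega)
    exact Nat.mul_pos (pow_pos (by omega) _) (Nat.mul_pos (by omega) (by omega))
  refine Nat.le_of_mul_le_mul_left ?_ h5
  calc q ^ 6 * ((q ^ 3 - 1) * (q ^ 2 - 1)) * n = q ^ 3 * ((q ^ 3 - 1) * (q ^ 2 - 1)) * q ^ 3 * n := by ring
    _ ≤ _ := h4
    _ = _ := by ring

theorem dec3 (v : Fin 3 → F) : v = Pi.single 0 (v 0) + Pi.single 1 (v 1) + Pi.single 2 (v 2) := by
  ext i
  fin_cases i <;> simp

theorem idx_rows {d : I4} (hR : ∀ i j, i ≠ d → i ≠ j → Rt A i j) : (At A).index ≤ Fintype.card F ^ 4 - 1 := by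
  obtain ⟨e, he⟩ : ∃ e : I31 ≃ I4, e (Sum.inr ()) = d := by
    have e0 : I31 ≃ I4 := Fintype.equivOfCardEq (by simp)
    exact ⟨e0.trans (Equiv.swap (e0 (Sum.inr ())) d), by simp⟩
  have hne : ∀ i : Fin 3, e (Sum.inl i) ≠ d := by
    intro i h
    rw [← he] at h
    exact Sum.inl_ne_inr (e.injective h)
  have hne2 : ∀ i j : Fin 3, i ≠ j → e (Sum.inl i) ≠ e (Sum.inl j) := fun i j hij h =>
    hij (Sum.inl_injective (e.injective h))
  have htv : ∀ i a, slR e (U3 (Pi.single i a)) ∈ At A := by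
    intro i a
    rw [U3_tv, slR_tv]
    exact hR _ _ (hne i) (fun h => Sum.inl_ne_inr (e.injective h)) _ a
  refine idx_aux e U3 ?_ (fun i j hij => hR _ _ (hne i) (hne2 i j hij)) ?_
  · intro v w g h hvw
    have h1 := congrArg Subtype.val hvw
    have h2 : fromBlocks 1 (Matrix.of fun i _ => v i) 0 1 * fromBlocks g.val 0 0 1 =
      fromBlocks 1 (Matrix.of fun i _ => w i) 0 1 * fromBlocks h.val 0 0 (1 : Matrix Unit Unit F) := h1
    rw [fromBlocks_multiply, fromBlocks_multiply, fromBlocks_inj] at h2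
    simp only [Matrix.mul_zero, Matrix.mul_one, Matrix.one_mul, Matrix.zero_mul, add_zero, zero_add] at h2
    obtain ⟨h3, h4, -, -⟩ := h2
    exact ⟨funext fun i => congrFun (congrFun h4 i) (), Subtype.ext h3⟩
  · intro v
    rw [dec3 v, U3_add, U3_add, map_mul, map_mul]
    exact mul_mem (mul_mem (htv _ _) (htv _ _)) (htv _ _)

theorem idx_cols {d : I4} (hR : ∀ i j, j ≠ d → i ≠ j → Rt A i j) : (At A).index ≤ Fintype.card F ^ 4 - 1 := by
  obtain ⟨e, he⟩ : ∃ e : I31 ≃ I4, e (Sum.inr ()) = d := by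
    have e0 : I31 ≃ I4 := Fintype.equivOfCardEq (by simp)
    exact ⟨e0.trans (Equiv.swap (e0 (Sum.inr ())) d), by simp⟩
  have hne : ∀ i : Fin 3, e (Sum.inl i) ≠ d := by
    intro i h
    rw [← he] at h
    exact Sum.inl_ne_inr (e.injective h)
  have hne2 : ∀ i j : Fin 3, i ≠ j → e (Sum.inl i) ≠ e (Sum.inl j) := fun i j hij h =>
    hij (Sum.inl_injective (e.injective h))
  have htv : ∀ i a, slR e (L3 (Pi.single i a)) ∈ At A := by
    intro i a
    rw [L3_tv, slR_tv]
    exact hR _ _ (hne i) (fun h => Sum.inr_ne_inl (e.injective h)) _ a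
  refine idx_aux e L3 ?_ (fun i j hij => hR _ _ (hne j) (hne2 i j hij)) ?_
  · intro v w g h hvw
    have h1 := congrArg Subtype.val hvw
    have h2 : fromBlocks 1 0 (Matrix.of fun _ i => v i) 1 * fromBlocks g.val 0 0 1 =
      fromBlocks 1 0 (Matrix.of fun _ i => w i) 1 * fromBlocks h.val 0 0 (1 : Matrix Unit Unit F) := h1
    rw [fromBlocks_multiply, fromBlocks_multiply, fromBlocks_inj] at h2
    simp only [Matrix.mul_zero, Matrix.mul_one, Matrix.one_mul, Matrix.zero_mul, add_zero, zero_add] at h2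
    obtain ⟨h3, -, h4, -⟩ := h2
    have h5 : g = h := Subtype.ext h3
    subst h5
    refine ⟨?_, rfl⟩
    have h6 := congrArg (· * (g⁻¹ : SpecialLinearGroup (Fin 3) F).val) h4
    simp only [Matrix.mul_assoc, mul_inv_val, Matrix.mul_one] at h6
    exact funext fun i => congrFun (congrFun h6 ()) i
  · intro v
    rw [dec3 v, L3_add, L3_add, map_mul, map_mul]
    exact mul_mem (mul_mem (htv _ _) (htv _ _)) (htv _ _)

end Fin

end Cfsg.Agent.H411.L4
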